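import Groth.Agent.H1FKd.Main

/-!
# The first cotangent module at a finite level
-/

set_option autoImplicit false
set_option linter.style.haveILetI false
set_option maxHeartbeats 1000000

universe u

open MvPolynomial TensorProduct

noncomputable section

namespace Groth.Agent.H1FKd

section dual

variable {S : Type u} [CommRing S] {r c : ℕ}

/-- The transpose of the map given by rows. -/
def rowT (v : Fin c → Fin r → S) : (Fin r → S) →ₗ[S] (Fin c → S) :=
  Fintype.linearCombination S fun j i => v i j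

theorem rowT_apply (v : Fin c → Fin r → S) (y : Fin r → S) (i : Fin c) :
    rowT v y i = ∑ j, y j * v i j := by
  simp [rowT, Fintype.linearCombination_apply, Finset.sum_apply]

theorem rowT_single (v : Fin c → Fin r → S) (j : Fin r) : rowT v (Pi.single j 1) = fun i => v i j := by
  simp [rowT, Fintype.linearCombination_apply_single]

theorem exists_ext_equiv (v : Fin c → Fin r → S) (M : Type u) [AddCommGroup M] [Module S M]
    (g : (Fin r → S) →ₗ[S] M) (hf : Function.Injective (Fintype.linearCombination S v))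
    (hg : Function.Surjective g) (hfg : Function.Exact (Fintype.linearCombination S v) g) :
    Nonempty (((Fin c → S) ⧸ LinearMap.range (rowT v)) ≃ₗ[S]
      CategoryTheory.Abelian.Ext.{u} (ModuleCat.of S M) (ModuleCat.of S S) 1) := by
  classical
  let f := Fintype.linearCombination S v
  let w : ((Fin c → S) →ₗ[S] S) ≃ₗ[S] (Fin c → S) := (Module.piEquiv (Fin c) S S).symm
  let u : (Fin r → S) ≃ₗ[S] ((Fin r → S) →ₗ[S] S) := Module.piEquiv (Fin r) S S
  have hw : ∀ (φ : (Fin c → S) →ₗ[S] S) (i : Fin c), w φ i = φ (Pi.single i 1) := fun φ i => by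
    obtain ⟨y, rfl⟩ := (Module.piEquiv (Fin c) S S).surjective φ
    simp [w, Module.piEquiv_apply_apply, Pi.single_apply]
  have hcomp : rowT v = w.toLinearMap ∘ₗ LinearMap.lcomp S S f ∘ₗ u.toLinearMap := by
    refine LinearMap.ext fun y => funext fun i => ?_
    rw [rowT_apply]
    show _ = w ((u y) ∘ₗ f) i
    rw [hw, LinearMap.comp_apply]
    simp only [f, Fintype.linearCombination_apply_single, one_smul, u, Module.piEquiv_apply_apply]
    exact Finset.sum_congr rfl fun j _ => by rw [smul_eq_mul]; ring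
  have hrange : (LinearMap.range (LinearMap.lcomp S S f)).map
      (w : ((Fin c → S) →ₗ[S] S) →ₗ[S] (Fin c → S)) = LinearMap.range (rowT v) := by
    rw [hcomp, LinearMap.range_comp, LinearMap.range_comp_of_range_eq_top _ (LinearEquiv.range u)]
  exact ⟨(Submodule.Quotient.equiv _ _ w hrange).symm.trans
    ((Submodule.quotEquivOfEq _ _ (TFCurvLib.extDelta_ker f g hf hg hfg S).symm).trans
      ((TFCurvLib.extDelta f g hf hg hfg S).quotKerEquivOfSurjective
        (TFCurvLib.extDelta_surjective f g hf hg hfg S)))⟩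

theorem exists_baseChange_equiv (v : Fin c → Fin r → S) (I : Ideal S) :
    Nonempty (((S ⧸ I) ⊗[S] ((Fin c → S) ⧸ LinearMap.range (rowT v))) ≃ₗ[S ⧸ I]
      ((Fin c → S ⧸ I) ⧸ LinearMap.range (rowT fun i j => Ideal.Quotient.mk I (v i j)))) := by
  classical
  let q : (Fin c → S) →ₗ[S] (Fin c → S ⧸ I) :=
    { toFun := fun x i => Ideal.Quotient.mk I (x i)
      map_add' := fun x y => funext fun i => map_add _ _ _
      map_smul' := fun s x => funext fun i => rfl }
  let vI : Fin c → Fin r → S ⧸ I := fun i j => Ideal.Quotient.mk I (v i j)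
  let N := (LinearMap.range (rowT vI))
  have hk : LinearMap.range (rowT v) ≤ LinearMap.ker ((N.mkQ.restrictScalars S) ∘ₗ q) := by
    rintro _ ⟨y, rfl⟩
    refine (Submodule.Quotient.mk_eq_zero N).2 ⟨fun j => Ideal.Quotient.mk I (y j), funext fun i => ?_⟩
    show _ = Ideal.Quotient.mk I (rowT v y i)
    rw [rowT_apply, rowT_apply, map_sum]
    exact Finset.sum_congr rfl fun j _ => (map_mul _ _ _).symm
  let φ : ((Fin c → S) ⧸ LinearMap.range (rowT v)) →ₗ[S] ((Fin c → S ⧸ I) ⧸ N) := Submodule.liftQ _ _ hk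
  let F : ((S ⧸ I) ⊗[S] ((Fin c → S) ⧸ LinearMap.range (rowT v))) →ₗ[S ⧸ I] ((Fin c → S ⧸ I) ⧸ N) :=
    φ.liftBaseChange (S ⧸ I)
  let G₀ : (Fin c → S ⧸ I) →ₗ[S ⧸ I] (S ⧸ I) ⊗[S] ((Fin c → S) ⧸ LinearMap.range (rowT v)) :=
    Fintype.linearCombination (S ⧸ I) fun i => (1 : S ⧸ I) ⊗ₜ[S] Submodule.Quotient.mk (Pi.single i 1)
  have hG : ∀ x : Fin c → S, G₀ (q x) = (1 : S ⧸ I) ⊗ₜ[S] Submodule.Quotient.mk x := by
    intro x
    have hx : (Submodule.Quotient.mk x : (Fin c → S) ⧸ LinearMap.range (rowT v)) =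
        ∑ i, x i • Submodule.Quotient.mk (Pi.single i 1) := by
      conv_lhs => rw [← Finset.univ_sum_single x]
      rw [← Submodule.mkQ_apply, map_sum]
      refine Finset.sum_congr rfl fun i _ => ?_
      rw [Submodule.mkQ_apply, ← Submodule.Quotient.mk_smul, ← Pi.single_smul', smul_eq_mul, mul_one]
    rw [hx, tmul_sum, Fintype.linearCombination_apply]
    refine Finset.sum_congr rfl fun i _ => ?_
    rw [tmul_smul, ← algebraMap_smul (S ⧸ I) (x i)]
    rfl
  have hker : N ≤ LinearMap.ker G₀ := by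
    rintro _ ⟨y, rfl⟩
    rw [LinearMap.mem_ker]
    obtain ⟨z, rfl⟩ : ∃ z : Fin r → S, (fun j => Ideal.Quotient.mk I (z j)) = y :=
      ⟨fun j => (Ideal.Quotient.mk_surjective (y j)).choose, funext fun j => (Ideal.Quotient.mk_surjective (y j)).choose_spec⟩
    rw [show rowT vI (fun j => Ideal.Quotient.mk I (z j)) = q (rowT v z) from funext fun i => by
      show _ = Ideal.Quotient.mk I (rowT v z i)
      rw [rowT_apply, rowT_apply, map_sum]
      exact Finset.sum_congr rfl fun j _ => (map_mul _ _ _).symm, hG,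
      (Submodule.Quotient.mk_eq_zero (LinearMap.range (rowT v))).2 (LinearMap.mem_range_self _ z), tmul_zero]
  let G := Submodule.liftQ N G₀ hker
  refine ⟨LinearEquiv.ofLinear F G ?_ ?_⟩
  · refine Submodule.linearMap_qext _ (LinearMap.pi_ext' fun i => LinearMap.ext_ring ?_)
    show F (G₀ (Pi.single i 1)) = Submodule.Quotient.mk (Pi.single i (1 : S ⧸ I))
    rw [Fintype.linearCombination_apply_single, one_smul, LinearMap.liftBaseChange_tmul, one_smul]
    show Submodule.Quotient.mk (q (Pi.single i 1)) = _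
    congr 1
    funext l
    show Ideal.Quotient.mk I _ = _
    rcases eq_or_ne l i with rfl | hne
    · rw [Pi.single_eq_same, Pi.single_eq_same, map_one]
    · rw [Pi.single_eq_of_ne hne, Pi.single_eq_of_ne hne, map_zero]
  · refine TensorProduct.AlgebraTensorModule.ext fun a x => ?_
    obtain ⟨x, rfl⟩ := Submodule.Quotient.mk_surjective _ x
    show G (F (a ⊗ₜ[S] Submodule.Quotient.mk x)) = a ⊗ₜ[S] Submodule.Quotient.mk x
    rw [LinearMap.liftBaseChange_tmul, map_smul]
    show a • G₀ (q x) = _
    rw [hG, TensorProduct.smul_tmul', smul_eq_mul, mul_one]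

end dual

variable (k : Type u) [Field k] [IsAlgClosed k] (r c : ℕ) {B : Type u} [CommRing B] [Algebra (PowerSeries k) B]
  [IsNoetherianRing B] [IsAdicComplete (bIdeal k B) B] [Module.Flat (PowerSeries k) B]
  [IsReduced (B ⧸ bIdeal k B)]
  (a : Fin c → AA k r) (ψ : AA k r →ₐ[PowerSeries k] B) (hψ : Function.Surjective ψ)
  (hker : RingHom.ker ψ.toRingHom = Ideal.span (Set.range a))
  (hreg : RingTheory.Sequence.IsRegular
      ((AA k r) ⧸ Ideal.span {algebraMap (PowerSeries k) (AA k r) PowerSeries.X ^ (0 + 1)})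
      ((List.ofFn a).map (Ideal.Quotient.mk (Ideal.span {algebraMap (PowerSeries k) (AA k r) PowerSeries.X ^ (0 + 1)}))))

include hψ hker hreg in
theorem nonempty_baseChange_ext (n : ℕ) :
    Nonempty (TensorProduct B (B ⧸ Ideal.span {algebraMap (PowerSeries k) B PowerSeries.X ^ (n + 1)})
        (CategoryTheory.Abelian.Ext.{u} (ModuleCat.of B (Om k B)) (ModuleCat.of B B) 1)
        ≃ₗ[B ⧸ Ideal.span {algebraMap (PowerSeries k) B PowerSeries.X ^ (n + 1)}]
      CategoryTheory.Abelian.Ext.{u}
        (ModuleCat.of (B ⧸ Ideal.span {algebraMap (PowerSeries k) B PowerSeries.X ^ (n + 1)})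
          (KaehlerDifferential (PowerSeries k) (B ⧸ Ideal.span {algebraMap (PowerSeries k) B PowerSeries.X ^ (n + 1)})))
        (ModuleCat.of (B ⧸ Ideal.span {algebraMap (PowerSeries k) B PowerSeries.X ^ (n + 1)})
          (B ⧸ Ideal.span {algebraMap (PowerSeries k) B PowerSeries.X ^ (n + 1)})) 1) := by
  classical
  let t : B := algebraMap (PowerSeries k) B PowerSeries.X
  let I : Ideal B := Ideal.span {t ^ (n + 1)}
  let ψn : AA k r →ₐ[PowerSeries k] B ⧸ I := (Ideal.Quotient.mkₐ (PowerSeries k) I).comp ψ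
  have hψn : Function.Surjective ψn := Ideal.Quotient.mk_surjective.comp hψ
  let T : AA k r := algebraMap (PowerSeries k) (AA k r) (PowerSeries.X ^ (n + 1))
  let a' : Fin (c + 1) → AA k r := Fin.snoc a T
  have hT : ψ T = t ^ (n + 1) := by rw [AlgHom.commutes, map_pow]
  have hker' : RingHom.ker ψn.toRingHom = Ideal.span (Set.range a') := by
    refine le_antisymm (fun x hx => ?_) (Ideal.span_le.2 ?_)
    · obtain ⟨w, hw⟩ := Ideal.mem_span_singleton'.1 (Ideal.Quotient.eq_zero_iff_mem.1 hx)
      obtain ⟨y, rfl⟩ := hψ w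
      have hm : x - y * T ∈ Ideal.span (Set.range a) := by
        rw [← hker, RingHom.mem_ker]
        show ψ _ = 0
        rw [map_sub, map_mul, hT]
        exact sub_eq_zero.2 hw.symm
      rw [show x = (x - y * T) + y * T by ring]
      refine Ideal.add_mem _ (Ideal.span_mono ?_ hm) (Ideal.mul_mem_left _ _ (Ideal.subset_span ⟨Fin.last c, Fin.snoc_last _ _⟩))
      rintro _ ⟨i, rfl⟩
      exact ⟨i.castSucc, Fin.snoc_castSucc _ _ _⟩
    · rintro _ ⟨i, rfl⟩
      refine Ideal.Quotient.eq_zero_iff_mem.2 ?_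
      induction i using Fin.lastCases with
      | last =>
        rw [show a' (Fin.last c) = T from Fin.snoc_last _ _]
        show ψ T ∈ I
        rw [hT]
        exact Ideal.mem_span_singleton_self _
      | cast i =>
        rw [show a' i.castSucc = a i from Fin.snoc_castSucc _ _ _]
        show ψ (a i) ∈ I
        rw [show ψ (a i) = 0 from hker.ge (Ideal.subset_span ⟨i, rfl⟩)]
        exact I.zero_mem
  have hnil : (bIdeal k (B ⧸ I)) ^ (n + 1) = ⊥ := by
    rw [Ideal.span_singleton_pow, Ideal.span_singleton_eq_bot]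
    exact (map_pow _ _ _).symm.trans (Ideal.Quotient.eq_zero_iff_mem.2 (show algebraMap (PowerSeries k) B (PowerSeries.X ^ (n + 1)) ∈ I from (map_pow (algebraMap (PowerSeries k) B) _ _).symm ▸ Ideal.mem_span_singleton_self _))
  have hcompl : ∀ (M : Type u) [AddCommGroup M] [Module (B ⧸ I) M], IsAdicComplete (bIdeal k (B ⧸ I)) M := by
    intro M _ _
    exact { haus' := fun x hx => by simpa [SModEq.zero, hnil] using hx (n + 1)
            prec' := fun f hf => ⟨f (n + 1), fun m => by
              rcases le_total m (n + 1) with h | h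
              · exact hf h
              · have := hf h
                simp only [SModEq.sub_mem, hnil, Submodule.bot_smul, Submodule.mem_bot, sub_eq_zero] at this
                rw [this]
                exact SModEq.rfl⟩ }
  haveI : IsAdicComplete (bIdeal k (B ⧸ I)) (B ⧸ I) := hcompl _
  haveI : IsAdicComplete (bIdeal k (B ⧸ I)) (KaehlerDifferential (PowerSeries k) (B ⧸ I)) := hcompl _
  obtain ⟨hgn, hJn⟩ := surjective_gen_and_exact k r ψn a' hker' hψn
  let vn : Fin c → Fin r → B ⧸ I := fun i => jd k r ψn (a i)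
  have hjT : jd k r ψn T = 0 := funext fun j => by simp [jd, T]
  have hrange : LinearMap.range (jac k r ψn a') = LinearMap.range (Fintype.linearCombination (B ⧸ I) vn) := by
    rw [jac, Fintype.range_linearCombination, Fintype.range_linearCombination]
    refine le_antisymm (Submodule.span_le.2 ?_) (Submodule.span_mono ?_)
    · rintro _ ⟨i, rfl⟩
      induction i using Fin.lastCases with
      | last =>
        show jd k r ψn (a' (Fin.last c)) ∈ _
        rw [show a' (Fin.last c) = T from Fin.snoc_last _ _, hjT]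
        exact Submodule.zero_mem _
      | cast i =>
        show jd k r ψn (a' i.castSucc) ∈ _
        rw [show a' i.castSucc = a i from Fin.snoc_castSucc _ _ _]
        exact Submodule.subset_span ⟨i, rfl⟩
    · rintro _ ⟨i, rfl⟩
      exact ⟨i.castSucc, by show jd k r ψn (a' i.castSucc) = _; rw [show a' i.castSucc = a i from Fin.snoc_castSucc _ _ _]⟩
  let e := AdicCompletion.ofLinearEquiv (bIdeal k (B ⧸ I)) (KaehlerDifferential (PowerSeries k) (B ⧸ I))
  let gn : (Fin r → B ⧸ I) →ₗ[B ⧸ I] KaehlerDifferential (PowerSeries k) (B ⧸ I) :=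
    e.symm.toLinearMap ∘ₗ gen k r ψn
  have hfn : Function.Injective (Fintype.linearCombination (B ⧸ I) vn) := by
    refine (injective_iff_map_eq_zero _).2 fun b hb => ?_
    choose b' hb' using fun i => Ideal.Quotient.mk_surjective (b i)
    funext i
    rw [← hb' i]
    refine Ideal.Quotient.eq_zero_iff_mem.2 (Ideal.mem_span_singleton.2
      (jac_reflects k r ψ a hker hψ hreg (n + 1) b' (fun j => Ideal.mem_span_singleton.1 ?_) i))
    refine Ideal.Quotient.eq_zero_iff_mem.1 ((?_ : _ = _).trans (congrFun hb j))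
    simp only [jac, Fintype.linearCombination_apply, Finset.sum_apply, Pi.smul_apply, smul_eq_mul, map_sum, map_mul]
    exact Finset.sum_congr rfl fun x _ => congrArg₂ (· * ·) (hb' x) rfl
  have hexn : Function.Exact (Fintype.linearCombination (B ⧸ I) vn) gn := by
    rw [LinearMap.exact_iff, ← hrange, ← LinearMap.exact_iff.1 hJn]
    exact LinearEquiv.ker_comp e.symm _
  obtain ⟨en⟩ := exists_ext_equiv vn _ gn hfn (e.symm.surjective.comp hgn) hexn
  obtain ⟨hg, hJ⟩ := surjective_gen_and_exact k r ψ a hker hψ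
  obtain ⟨e₁⟩ := exists_ext_equiv (fun i => jd k r ψ (a i)) (Om k B) (gen k r ψ)
    (jac_injective k r ψ a hker hψ hreg) hg hJ
  obtain ⟨e₂⟩ := exists_baseChange_equiv (fun i => jd k r ψ (a i)) I
  exact ⟨((TensorProduct.AlgebraTensorModule.congr (LinearEquiv.refl (B ⧸ I) (B ⧸ I)) e₁.symm).trans e₂).trans en⟩

end Groth.Agent.H1FKd
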