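import Groth.Agent.S16187
import Groth.Agent.CplKaehler4.Basic

/-!
# The completed differentials of a restricted complete intersection over a power series ring
-/

set_option autoImplicit false
set_option linter.style.haveILetI false
set_option maxHeartbeats 1000000

universe u

open MvPolynomial

noncomputable section

namespace Groth.Agent.H1FKd

section pd

variable (R : Type u) [CommRing R] (t : R) (r : ℕ)

abbrev cIdeal : Ideal (MvPolynomial (Fin r) R) := Ideal.span {MvPolynomial.C (σ := Fin r) t}

theorem mem_pow_smul_iff (n : ℕ) (z : (MvPolynomial (Fin r) R)) :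
    z ∈ ((cIdeal R t r) ^ n • ⊤ : Submodule (MvPolynomial (Fin r) R) (MvPolynomial (Fin r) R)) ↔ ∃ w, z = C (t ^ n) * w := by
  rw [smul_eq_mul, Ideal.mul_top, Ideal.span_singleton_pow, Ideal.mem_span_singleton, ← map_pow]
  rfl

theorem pderiv_mk_congr (j : Fin r) (n : ℕ) {a b : (MvPolynomial (Fin r) R)}
    (h : (Submodule.Quotient.mk a : (MvPolynomial (Fin r) R) ⧸ ((cIdeal R t r) ^ n • ⊤ : Submodule (MvPolynomial (Fin r) R) (MvPolynomial (Fin r) R))) = Submodule.Quotient.mk b) :
    (Submodule.Quotient.mk (pderiv j a) : (MvPolynomial (Fin r) R) ⧸ ((cIdeal R t r) ^ n • ⊤ : Submodule (MvPolynomial (Fin r) R) (MvPolynomial (Fin r) R))) =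
      Submodule.Quotient.mk (pderiv j b) := by
  rw [Submodule.Quotient.eq, mem_pow_smul_iff] at h ⊢
  obtain ⟨w, hw⟩ := h
  exact ⟨pderiv j w, by rw [← map_sub, hw, pderiv_C_mul]⟩

/-- A representative of a component of an element of the completion. -/
def rep (x : AdicCompletion (cIdeal R t r) (MvPolynomial (Fin r) R)) (n : ℕ) : (MvPolynomial (Fin r) R) :=
  (Submodule.mkQ_surjective _ (x.val n)).choose

theorem mk_rep (x : AdicCompletion (cIdeal R t r) (MvPolynomial (Fin r) R)) (n : ℕ) :
    (Submodule.Quotient.mk (rep R t r x n) : (MvPolynomial (Fin r) R) ⧸ ((cIdeal R t r) ^ n • ⊤ : Submodule (MvPolynomial (Fin r) R) (MvPolynomial (Fin r) R))) = x.val n :=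
  (Submodule.mkQ_surjective _ (x.val n)).choose_spec

/-- Partial derivatives on the completion, as functions. -/
def pdFun (j : Fin r) (x : AdicCompletion (cIdeal R t r) (MvPolynomial (Fin r) R)) : AdicCompletion (cIdeal R t r) (MvPolynomial (Fin r) R) :=
  ⟨fun n => Submodule.Quotient.mk (pderiv j (rep R t r x n)), fun {m n} hmn => by
    refine (show _ = Submodule.Quotient.mk (pderiv j (rep R t r x n)) from rfl).trans
      (pderiv_mk_congr R t r j m ?_)
    rw [mk_rep, ← x.property hmn, ← mk_rep R t r x n]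
    rfl⟩

theorem pdFun_val (j : Fin r) (x : AdicCompletion (cIdeal R t r) (MvPolynomial (Fin r) R)) (n : ℕ) {p : (MvPolynomial (Fin r) R)}
    (hp : (Submodule.Quotient.mk p : (MvPolynomial (Fin r) R) ⧸ ((cIdeal R t r) ^ n • ⊤ : Submodule (MvPolynomial (Fin r) R) (MvPolynomial (Fin r) R))) = x.val n) :
    (pdFun R t r j x).val n = Submodule.Quotient.mk (pderiv j p) :=
  pderiv_mk_congr R t r j n ((mk_rep R t r x n).trans hp.symm)

/-- Partial derivatives on the completion. -/
def pd (j : Fin r) : Derivation R (AdicCompletion (cIdeal R t r) (MvPolynomial (Fin r) R)) (AdicCompletion (cIdeal R t r) (MvPolynomial (Fin r) R)) :=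
  Derivation.mk'
    { toFun := pdFun R t r j
      map_add' := fun x y => AdicCompletion.ext fun n => by
        rw [pdFun_val R t r j (x + y) n (p := rep R t r x n + rep R t r y n)
          (by rw [Submodule.Quotient.mk_add, mk_rep, mk_rep]; rfl), map_add, Submodule.Quotient.mk_add]
        rfl
      map_smul' := fun s x => AdicCompletion.ext fun n => by
        rw [pdFun_val R t r j (s • x) n (p := s • rep R t r x n)
          (by rw [Submodule.Quotient.mk_smul, mk_rep]; rfl), Derivation.map_smul, Submodule.Quotient.mk_smul]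
        rfl }
    fun x y => AdicCompletion.ext fun n => by
      show (pdFun R t r j (x * y)).val n = _
      rw [pdFun_val R t r j (x * y) n (p := rep R t r x n * rep R t r y n)
        (by rw [AdicCompletion.val_mul, ← mk_rep R t r x n, ← mk_rep R t r y n]; rfl),
        Derivation.leibniz]
      show _ = (x * pdFun R t r j y).val n + (y * pdFun R t r j x).val n
      rw [AdicCompletion.val_mul, AdicCompletion.val_mul, ← mk_rep R t r x n, ← mk_rep R t r y n]
      rfl

theorem pd_of (j : Fin r) (p : (MvPolynomial (Fin r) R)) :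
    pd R t r j (algebraMap (MvPolynomial (Fin r) R) (AdicCompletion (cIdeal R t r) (MvPolynomial (Fin r) R)) p) = algebraMap (MvPolynomial (Fin r) R) (AdicCompletion (cIdeal R t r) (MvPolynomial (Fin r) R)) (pderiv j p) :=
  AdicCompletion.ext fun n => pdFun_val R t r j _ n (p := p) rfl

theorem exists_decomp (n : ℕ) (x : AdicCompletion (cIdeal R t r) (MvPolynomial (Fin r) R)) :
    ∃ (p : (MvPolynomial (Fin r) R)) (y : AdicCompletion (cIdeal R t r) (MvPolynomial (Fin r) R)), x = algebraMap (MvPolynomial (Fin r) R) (AdicCompletion (cIdeal R t r) (MvPolynomial (Fin r) R)) p + (t ^ n) • y := by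
  refine ⟨rep R t r x n, ?_⟩
  have h : x - AdicCompletion.of (cIdeal R t r) (MvPolynomial (Fin r) R) (rep R t r x n) ∈ ((cIdeal R t r) ^ n • ⊤ : Submodule (MvPolynomial (Fin r) R) (AdicCompletion (cIdeal R t r) (MvPolynomial (Fin r) R))) := by
    rw [AdicCompletion.pow_smul_top_eq_ker_eval (M := (MvPolynomial (Fin r) R)) ⟨{C t}, by simp⟩, LinearMap.mem_ker, map_sub, sub_eq_zero]
    exact (mk_rep R t r x n).symm
  rw [Ideal.span_singleton_pow, Submodule.ideal_span_singleton_smul,
    Submodule.mem_smul_pointwise_iff_exists] at h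
  obtain ⟨y, -, hy⟩ := h
  refine ⟨y, eq_add_of_sub_eq' ?_⟩
  rw [← map_pow] at hy
  refine hy.symm.trans ?_
  rw [Algebra.smul_def, Algebra.smul_def]
  rfl

end pd

variable (k : Type u) [Field k] (r : ℕ)

/-- The polynomial ring over the power series ring. -/
abbrev PP : Type u := MvPolynomial (Fin r) (PowerSeries k)

/-- The restricted power series ring. -/
abbrev AA : Type u :=
  AdicCompletion (Ideal.span {MvPolynomial.C (σ := Fin r) (PowerSeries.X (R := k))}) (MvPolynomial (Fin r) (PowerSeries k))

variable {B : Type u} [CommRing B] [Algebra (PowerSeries k) B] (ψ : (AA k r) →ₐ[(PowerSeries k)] B)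

/-- The Jacobian row of an element. -/
def jd (x : (AA k r)) : Fin r → B := fun j => ψ (pd (PowerSeries k) PowerSeries.X r j x)

theorem jd_add (x y : (AA k r)) : jd k r ψ (x + y) = jd k r ψ x + jd k r ψ y :=
  funext fun j => by simp [jd]

theorem jd_sub (x y : (AA k r)) : jd k r ψ (x - y) = jd k r ψ x - jd k r ψ y :=
  funext fun j => by simp [jd]

theorem jd_smul (s : (PowerSeries k)) (x : (AA k r)) : jd k r ψ (s • x) = s • jd k r ψ x :=
  funext fun j => by simp [jd]

theorem jd_mul (x y : (AA k r)) : jd k r ψ (x * y) = ψ x • jd k r ψ y + ψ y • jd k r ψ x :=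
  funext fun j => by simp [jd, Derivation.leibniz]

theorem jd_of (p : (PP k r)) : jd k r ψ (algebraMap (PP k r) (AA k r) p) = fun j => ψ (algebraMap (PP k r) (AA k r) (pderiv j p)) :=
  funext fun j => by rw [jd, pd_of]

variable {c : ℕ} (a : Fin c → (AA k r))

/-- The Jacobian matrix. -/
def jac : (Fin c → B) →ₗ[B] (Fin r → B) := Fintype.linearCombination B fun i => jd k r ψ (a i)

variable (hker : RingHom.ker ψ.toRingHom = Ideal.span (Set.range a))

include hker in
theorem jd_mem_range {x : (AA k r)} (hx : ψ x = 0) : jd k r ψ x ∈ LinearMap.range (jac k r ψ a) := by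
  obtain ⟨p, rfl⟩ := (Submodule.mem_span_range_iff_exists_fun (AA k r)).1 (hker.le hx)
  refine ⟨fun i => ψ (p i), funext fun j => ?_⟩
  simp only [jac, Fintype.linearCombination_apply, Finset.sum_apply, Pi.smul_apply, jd, map_sum, smul_eq_mul,
    Derivation.leibniz]
  refine Finset.sum_congr rfl fun i _ => ?_
  have h0 : ψ (a i) = 0 := hker.ge (Ideal.subset_span ⟨i, rfl⟩)
  simp [h0]

variable (B) in
/-- The ideal of the uniformizer. -/
abbrev bIdeal : Ideal B := Ideal.span {algebraMap (PowerSeries k) B PowerSeries.X}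

variable (B) in
/-- The completed differentials. -/
abbrev Om : Type u :=
  AdicCompletion (Ideal.span {algebraMap (PowerSeries k) B PowerSeries.X}) (KaehlerDifferential (PowerSeries k) B)

/-- The differentials of the variables. -/
def gen : (Fin r → B) →ₗ[B] (Om k B) := Fintype.linearCombination B fun j =>
  AdicCompletion.of (bIdeal k B) _ (KaehlerDifferential.D (PowerSeries k) B (ψ (algebraMap (PP k r) (AA k r) (X j))))

theorem smul_mem_IB_pow {M : Type u} [AddCommGroup M] [Module B M] [Module (PowerSeries k) M] [IsScalarTower (PowerSeries k) B M] (n : ℕ) (m : M) :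
    (PowerSeries.X (R := k) ^ n) • m ∈ ((bIdeal k B) ^ n • ⊤ : Submodule B M) := by
  rw [← algebraMap_smul B (PowerSeries.X (R := k) ^ n) m, map_pow]
  exact Submodule.smul_mem_smul (Ideal.pow_mem_pow (Ideal.mem_span_singleton_self _) n) trivial

theorem gen_jd (x : (AA k r)) : gen k r ψ (jd k r ψ x) = AdicCompletion.of (bIdeal k B) _ (KaehlerDifferential.D (PowerSeries k) B (ψ x)) := by
  have hP : ∀ p : (PP k r), gen k r ψ (jd k r ψ (algebraMap (PP k r) (AA k r) p)) =
      AdicCompletion.of (bIdeal k B) _ (KaehlerDifferential.D (PowerSeries k) B (ψ (algebraMap (PP k r) (AA k r) p))) := by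
    intro p
    induction p using MvPolynomial.induction_on with
    | C s =>
      rw [jd_of]
      have e : algebraMap (PP k r) (AA k r) (C s) = algebraMap (PowerSeries k) (AA k r) s := rfl
      simp only [pderiv_C, map_zero, e, AlgHom.commutes, Derivation.map_algebraMap]
      exact map_zero _
    | add p q hp hq =>
      simp only [map_add, jd_add, hp, hq]
    | mul_X p i hp =>
      rw [map_mul, jd_mul, map_add, map_smul, map_smul, hp, map_mul ψ, Derivation.leibniz, map_add, map_smul, map_smul]
      congr 1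
      have e : jd k r ψ (algebraMap (PP k r) (AA k r) (X i)) = Pi.single i 1 := by
        rw [jd_of]
        funext j
        rcases eq_or_ne j i with rfl | hne
        · rw [pderiv_X_self, map_one, map_one, Pi.single_eq_same]
        · rw [pderiv_X_of_ne hne.symm, map_zero, map_zero, Pi.single_eq_of_ne hne]
      rw [e, gen, Fintype.linearCombination_apply_single, one_smul]
  refine sub_eq_zero.1 (IsHausdorff.haus (inferInstance : IsHausdorff (bIdeal k B) (Om k B)) _ fun n => ?_)
  rw [SModEq.zero]
  obtain ⟨p, y, rfl⟩ := exists_decomp (PowerSeries k) PowerSeries.X r n x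
  rw [jd_add, map_add, hP p, map_add, map_add, map_add, add_sub_add_left_eq_sub, jd_smul, map_smul ψ, Derivation.map_smul]
  refine Submodule.sub_mem _ ?_ ?_
  · rw [LinearMap.map_smul_of_tower]
    exact smul_mem_IB_pow k n _
  · rw [LinearMap.map_smul_of_tower]
    exact smul_mem_IB_pow k n _

variable (hψ : Function.Surjective ψ)

/-- The derivation into the cokernel of the Jacobian. -/
def cokDer : Derivation (PowerSeries k) B ((Fin r → B) ⧸ LinearMap.range (jac k r ψ a)) :=
  let σ := Function.surjInv hψ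
  let hσ : ∀ b, ψ (σ b) = b := Function.surjInv_eq hψ
  have key : ∀ x y : (AA k r), ψ x = ψ y → ∀ hk : RingHom.ker ψ.toRingHom = Ideal.span (Set.range a),
      (Submodule.Quotient.mk (jd k r ψ x) : (Fin r → B) ⧸ LinearMap.range (jac k r ψ a)) =
        Submodule.Quotient.mk (jd k r ψ y) := fun x y h hk => by
    rw [Submodule.Quotient.eq, ← jd_sub]
    exact jd_mem_range k r ψ a hk (by rw [map_sub, h, sub_self])
  Derivation.mk'
    { toFun := fun b => Submodule.Quotient.mk (jd k r ψ (σ b))
      map_add' := fun b b' => by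
        rw [key (σ (b + b')) (σ b + σ b') (by simp [hσ]) hker, jd_add, Submodule.Quotient.mk_add]
      map_smul' := fun s b => by
        rw [key (σ (s • b)) (s • σ b) (by simp [hσ]) hker, jd_smul, Submodule.Quotient.mk_smul]
        rfl }
    fun b b' => by
      show Submodule.Quotient.mk (jd k r ψ (σ (b * b'))) =
        b • (Submodule.Quotient.mk (jd k r ψ (σ b')) : (Fin r → B) ⧸ LinearMap.range (jac k r ψ a)) +
          b' • Submodule.Quotient.mk (jd k r ψ (σ b))
      rw [key (σ (b * b')) (σ b * σ b') (by simp [hσ]) hker, jd_mul, hσ, hσ, Submodule.Quotient.mk_add,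
        Submodule.Quotient.mk_smul, Submodule.Quotient.mk_smul]

include hψ hker in
theorem cokDer_apply (x : (AA k r)) :
    cokDer k r ψ a hker hψ (ψ x) = Submodule.Quotient.mk (jd k r ψ x) := by
  show (Submodule.Quotient.mk (jd k r ψ (Function.surjInv hψ (ψ x))) : (Fin r → B) ⧸ LinearMap.range (jac k r ψ a)) = _
  rw [Submodule.Quotient.eq, ← jd_sub]
  exact jd_mem_range k r ψ a hker (by rw [map_sub, Function.surjInv_eq hψ, sub_self])

include hψ hker in
/-- The presentation of the completed differentials. -/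
theorem surjective_gen_and_exact [IsNoetherianRing B] [IsAdicComplete (bIdeal k B) B] :
    Function.Surjective (gen k r ψ) ∧ Function.Exact (jac k r ψ a) (gen k r ψ) := by
  haveI : IsAdicComplete (bIdeal k B) ((Fin r → B) ⧸ LinearMap.range (jac k r ψ a)) := AdicLib.isAdicComplete_of_finite (bIdeal k B) _
  let L : (Om k B) →ₗ[B] ((Fin r → B) ⧸ LinearMap.range (jac k r ψ a)) :=
    CplKaehler4.lift (bIdeal k B) (cokDer k r ψ a hker hψ).liftKaehlerDifferential
  have h0 : gen k r ψ ∘ₗ jac k r ψ a = 0 := LinearMap.pi_ext' fun i => LinearMap.ext_ring (by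
    show gen k r ψ (jac k r ψ a (Pi.single i 1)) = 0
    rw [jac, Fintype.linearCombination_apply_single, one_smul, gen_jd,
      show ψ (a i) = 0 from hker.ge (Ideal.subset_span ⟨i, rfl⟩), map_zero, map_zero])
  let G : ((Fin r → B) ⧸ LinearMap.range (jac k r ψ a)) →ₗ[B] (Om k B) :=
    Submodule.liftQ _ (gen k r ψ) (LinearMap.range_le_ker_iff.2 h0)
  have hL : ∀ x : (AA k r), L (AdicCompletion.of (bIdeal k B) _ (KaehlerDifferential.D (PowerSeries k) B (ψ x))) =
      Submodule.Quotient.mk (jd k r ψ x) := fun x =>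
    (CplKaehler4.lift_of (bIdeal k B) _ _).trans ((Derivation.liftKaehlerDifferential_comp_D _ _).trans (cokDer_apply k r ψ a hker hψ x))
  have hLG : L ∘ₗ G = LinearMap.id := Submodule.linearMap_qext _ <| LinearMap.pi_ext' fun j => LinearMap.ext_ring (by
    show L (gen k r ψ (Pi.single j 1)) = Submodule.Quotient.mk (Pi.single j (1 : B))
    rw [gen, Fintype.linearCombination_apply_single, one_smul, hL, jd_of]
    congr 1
    funext l
    rcases eq_or_ne l j with rfl | hne
    · rw [pderiv_X_self, map_one, map_one, Pi.single_eq_same]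
    · rw [pderiv_X_of_ne hne.symm, map_zero, map_zero, Pi.single_eq_of_ne hne])
  have hof : ∀ ω : KaehlerDifferential (PowerSeries k) B, G (L (AdicCompletion.of (bIdeal k B) _ ω)) = AdicCompletion.of (bIdeal k B) _ ω := by
    intro ω
    have hω : ω ∈ Submodule.span B (Set.range (KaehlerDifferential.D (PowerSeries k) B)) := by
      rw [KaehlerDifferential.span_range_derivation]; trivial
    induction hω using Submodule.span_induction with
    | mem y hy =>
      obtain ⟨b, rfl⟩ := hy
      obtain ⟨x, rfl⟩ := hψ b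
      rw [hL]
      exact gen_jd k r ψ x
    | zero => simp
    | add y z _ _ hy hz => simp only [map_add, hy, hz]
    | smul b y _ hy => simp only [map_smul, hy]
  have hGL : ∀ z : (Om k B), G (L z) = z := fun z => by
    refine sub_eq_zero.1 (IsHausdorff.haus (inferInstance : IsHausdorff (bIdeal k B) (Om k B)) _ fun n => ?_)
    rw [SModEq.zero]
    obtain ⟨ω, hω⟩ := Submodule.mkQ_surjective _ (z.val n)
    have h : z - AdicCompletion.of (bIdeal k B) _ ω ∈ ((bIdeal k B) ^ n • ⊤ : Submodule B (Om k B)) := by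
      rw [AdicCompletion.pow_smul_top_eq_ker_eval (Submodule.fg_span_singleton _), LinearMap.mem_ker, map_sub, sub_eq_zero]
      exact hω.symm
    have h' := Submodule.mem_map_of_mem (f := G ∘ₗ L) h
    rw [Submodule.map_smul''] at h'
    have := Submodule.sub_mem _ (Submodule.smul_mono le_rfl le_top h') h
    have e : (G ∘ₗ L) (z - AdicCompletion.of (bIdeal k B) _ ω) - (z - AdicCompletion.of (bIdeal k B) _ ω) = G (L z) - z := by
      simp only [LinearMap.comp_apply, map_sub, hof]; abel
    rwa [e] at this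
  refine ⟨fun z => ?_, fun y => ⟨fun hy => ?_, ?_⟩⟩
  · obtain ⟨v, hv⟩ := Submodule.mkQ_surjective _ (L z)
    exact ⟨v, (show G (Submodule.Quotient.mk v) = z by rw [show Submodule.Quotient.mk v = L z from hv, hGL])⟩
  · have := LinearMap.congr_fun hLG (Submodule.Quotient.mk y)
    rw [LinearMap.comp_apply, show G (Submodule.Quotient.mk y) = gen k r ψ y from rfl, hy, map_zero] at this
    exact (Submodule.Quotient.mk_eq_zero _).1 this.symm
  · rintro ⟨z, rfl⟩
    exact LinearMap.congr_fun h0 z

/-- Reduction modulo the uniformizer. -/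
theorem exists_reduction :
    ∃ q : (AA k r) →+* MvPolynomial (Fin r) k, Function.Surjective q ∧
      RingHom.ker q = Ideal.span {algebraMap (PowerSeries k) (AA k r) PowerSeries.X} ∧
      ∀ p : (PP k r), q (algebraMap (PP k r) (AA k r) p) = MvPolynomial.map PowerSeries.constantCoeff p := by
  have hI : ∀ z ∈ ((Ideal.span {MvPolynomial.C (σ := Fin r) (PowerSeries.X (R := k))}) ^ 1 : Ideal (PP k r)), MvPolynomial.map PowerSeries.constantCoeff z = 0 := fun z hz => by
    rw [pow_one, Ideal.mem_span_singleton'] at hz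
    obtain ⟨w, rfl⟩ := hz
    simp
  let m : (PP k r) ⧸ (Ideal.span {MvPolynomial.C (σ := Fin r) (PowerSeries.X (R := k))}) ^ 1 →+* MvPolynomial (Fin r) k :=
    Ideal.Quotient.lift _ (MvPolynomial.map PowerSeries.constantCoeff) hI
  let q : (AA k r) →+* MvPolynomial (Fin r) k := m.comp (AdicCompletion.evalₐ (Ideal.span {MvPolynomial.C (σ := Fin r) (PowerSeries.X (R := k))}) 1).toRingHom
  have hq : ∀ p : (PP k r), q (algebraMap (PP k r) (AA k r) p) = MvPolynomial.map PowerSeries.constantCoeff p := fun p => by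
    show m ((AdicCompletion.evalₐ (Ideal.span {MvPolynomial.C (σ := Fin r) (PowerSeries.X (R := k))}) 1) (algebraMap (PP k r) (AA k r) p)) = _
    rw [AlgHom.commutes]
    rfl
  have ht : q (algebraMap (PowerSeries k) (AA k r) PowerSeries.X) = 0 := by
    show q (algebraMap (PP k r) (AA k r) (C PowerSeries.X)) = 0
    rw [hq]
    simp
  refine ⟨q, fun z => ?_, le_antisymm (fun x hx => ?_) ?_, hq⟩
  · exact ⟨algebraMap (PP k r) (AA k r) (MvPolynomial.map PowerSeries.C z), by rw [hq, MvPolynomial.map_map]; simp [MvPolynomial.map_id]⟩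
  · obtain ⟨p, y, rfl⟩ := exists_decomp (PowerSeries k) PowerSeries.X r 1 x
    rw [pow_one, Algebra.smul_def] at hx ⊢
    rw [RingHom.mem_ker, map_add, map_mul, ht, zero_mul, add_zero, hq] at hx
    refine Ideal.add_mem _ ?_ (Ideal.mul_mem_right _ _ (Ideal.mem_span_singleton_self _))
    obtain ⟨w, rfl⟩ : C PowerSeries.X ∣ p := by
      rw [C_dvd_iff_dvd_coeff]
      intro m
      rw [PowerSeries.X_dvd_iff]
      have := congrArg (MvPolynomial.coeff m) hx
      rwa [MvPolynomial.coeff_map, MvPolynomial.coeff_zero] at this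
    rw [map_mul]
    exact Ideal.mul_mem_right _ _ (Ideal.mem_span_singleton_self _)
  · rw [Ideal.span_le, Set.singleton_subset_iff]
    exact ht

theorem pd_reduction (q : (AA k r) →+* MvPolynomial (Fin r) k)
    (hq : ∀ p : (PP k r), q (algebraMap (PP k r) (AA k r) p) = MvPolynomial.map PowerSeries.constantCoeff p) (j : Fin r) (x : (AA k r)) :
    q (pd (PowerSeries k) PowerSeries.X r j x) = pderiv j (q x) := by
  have ht : q (algebraMap (PowerSeries k) (AA k r) PowerSeries.X) = 0 := by
    show q (algebraMap (PP k r) (AA k r) (C PowerSeries.X)) = 0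
    rw [hq]
    simp
  obtain ⟨p, y, rfl⟩ := exists_decomp (PowerSeries k) PowerSeries.X r 1 x
  rw [map_add, map_add, pd_of, hq, pow_one, Derivation.map_smul, Algebra.smul_def, Algebra.smul_def, map_mul, ht,
    zero_mul, add_zero, map_add, map_mul, ht, zero_mul, add_zero, hq]
  induction p using MvPolynomial.induction_on with
  | C s => simp
  | add a b ha hb => simp only [map_add, ha, hb]
  | mul_X a i ha =>
    rw [pderiv_mul, map_add, map_mul, map_mul, map_mul, ha, map_X, pderiv_mul]
    congr 2
    rcases eq_or_ne i j with rfl | hne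
    · simp
    · simp [pderiv_X_of_ne hne]

include hψ hker in
/-- The Jacobian reflects divisibility by powers of the uniformizer. -/
theorem jac_reflects [IsAlgClosed k] [Module.Flat (PowerSeries k) B]
    (hreg : RingTheory.Sequence.IsRegular
      ((AA k r) ⧸ Ideal.span {algebraMap (PowerSeries k) (AA k r) PowerSeries.X ^ (0 + 1)})
      ((List.ofFn a).map (Ideal.Quotient.mk (Ideal.span {algebraMap (PowerSeries k) (AA k r) PowerSeries.X ^ (0 + 1)}))))
    [IsReduced (B ⧸ (bIdeal k B))] (m : ℕ) (b : Fin c → B)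
    (hb : ∀ j, algebraMap (PowerSeries k) B PowerSeries.X ^ m ∣ jac k r ψ a b j) :
    ∀ i, algebraMap (PowerSeries k) B PowerSeries.X ^ m ∣ b i := by
  classical
  obtain ⟨q, hqs, hqk, hq⟩ := exists_reduction k r
  letI : Algebra k (B ⧸ (bIdeal k B)) :=
    ((Ideal.Quotient.mk (bIdeal k B)).comp ((algebraMap (PowerSeries k) B).comp PowerSeries.C)).toAlgebra
  let φ : MvPolynomial (Fin r) k →ₐ[k] B ⧸ (bIdeal k B) := aeval fun j => Ideal.Quotient.mk (bIdeal k B) (ψ (algebraMap (PP k r) (AA k r) (X j)))
  have ht : Ideal.Quotient.mk (bIdeal k B) (algebraMap (PowerSeries k) B PowerSeries.X) = 0 :=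
    Ideal.Quotient.eq_zero_iff_mem.2 (Ideal.mem_span_singleton_self _)
  have hφq : ∀ x : (AA k r), φ (q x) = Ideal.Quotient.mk (bIdeal k B) (ψ x) := by
    intro x
    obtain ⟨p, y, rfl⟩ := exists_decomp (PowerSeries k) PowerSeries.X r 1 x
    have h0 : q ((PowerSeries.X (R := k) ^ 1) • y) = 0 := by
      rw [pow_one, Algebra.smul_def]
      exact hqk.ge (Ideal.mul_mem_right _ _ (Ideal.mem_span_singleton_self _))
    rw [map_add, map_add, map_add, map_add, h0, map_zero, hq, map_smul ψ, pow_one, Algebra.smul_def, map_mul, ht,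
      zero_mul]
    congr 1
    have hs : ∀ s : (PowerSeries k), φ (C (PowerSeries.constantCoeff s)) = Ideal.Quotient.mk (bIdeal k B) (algebraMap (PowerSeries k) B s) := by
      intro s
      conv_rhs => rw [PowerSeries.eq_X_mul_shift_add_const s]
      rw [map_add, map_add, map_mul, map_mul, ht, zero_mul, zero_add, ← MvPolynomial.algebraMap_eq, AlgHom.commutes]
      rfl
    induction p using MvPolynomial.induction_on with
    | C s =>
      rw [MvPolynomial.map_C, hs, show algebraMap (PP k r) (AA k r) (C s) = algebraMap (PowerSeries k) (AA k r) s from rfl, AlgHom.commutes]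
    | add a b ha hb => simp only [map_add, ha, hb]
    | mul_X a i ha =>
      rw [map_mul, map_mul, map_mul, map_mul, map_mul, ha, MvPolynomial.map_X]
      simp only [φ, MvPolynomial.aeval_X]
  have hφ : Function.Surjective φ := fun z => by
    obtain ⟨b, rfl⟩ := Ideal.Quotient.mk_surjective z
    obtain ⟨x, rfl⟩ := hψ b
    exact ⟨q x, hφq x⟩
  let a₀ : Fin c → MvPolynomial (Fin r) k := fun i => q (a i)
  have hker₀ : RingHom.ker φ.toRingHom = Ideal.span (Set.range a₀) := by
    refine le_antisymm (fun z hz => ?_) (Ideal.span_le.2 ?_)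
    · obtain ⟨x, rfl⟩ := hqs z
      have hz' : ψ x ∈ (bIdeal k B) := Ideal.Quotient.eq_zero_iff_mem.1 ((hφq x).symm.trans hz)
      obtain ⟨w, hw⟩ := Ideal.mem_span_singleton'.1 hz'
      obtain ⟨y, rfl⟩ := hψ w
      have hm : x - y * algebraMap (PowerSeries k) (AA k r) PowerSeries.X ∈ Ideal.span (Set.range a) := by
        rw [← hker, RingHom.mem_ker]
        show ψ _ = 0
        rw [map_sub, map_mul, AlgHom.commutes, hw, sub_self]
      have := Ideal.mem_map_of_mem q hm
      rw [Ideal.map_span, ← Set.range_comp, map_sub, map_mul,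
        show q (algebraMap (PowerSeries k) (AA k r) PowerSeries.X) = 0 from hqk.ge (Ideal.mem_span_singleton_self _), mul_zero, sub_zero] at this
      exact this
    · rintro _ ⟨i, rfl⟩
      show φ (q (a i)) = 0
      rw [hφq, show ψ (a i) = 0 from hker.ge (Ideal.subset_span ⟨i, rfl⟩), map_zero]
  have hreg₀ : RingTheory.Sequence.IsWeaklyRegular (MvPolynomial (Fin r) k) (List.ofFn a₀) := by
    have hk' : RingHom.ker q = Ideal.span {algebraMap (PowerSeries k) (AA k r) PowerSeries.X ^ (0 + 1)} := by
      rw [hqk, zero_add, pow_one]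
    let e : ((AA k r) ⧸ Ideal.span {algebraMap (PowerSeries k) (AA k r) PowerSeries.X ^ (0 + 1)}) ≃+* MvPolynomial (Fin r) k :=
      (Ideal.quotEquivOfEq hk'.symm).trans (RingHom.quotientKerEquivOfSurjective hqs)
    refine (AddEquiv.isWeaklyRegular_congr (e := e.toAddEquiv) ?_).1 hreg.toIsWeaklyRegular
    rw [List.forall₂_map_left_iff, List.ofFn_eq_map, List.ofFn_eq_map, List.forall₂_map_left_iff,
      List.forall₂_map_right_iff, List.forall₂_same]
    intro i _ z
    show e (Ideal.Quotient.mk _ (a i) • z) = a₀ i • e z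
    rw [smul_eq_mul, map_mul, smul_eq_mul]
    rfl
  let J₀ : (Fin c → B ⧸ (bIdeal k B)) →ₗ[B ⧸ (bIdeal k B)] (Fin r → B ⧸ (bIdeal k B)) :=
    Fintype.linearCombination (B ⧸ (bIdeal k B)) fun i j => φ (pderiv j (a₀ i))
  have hJ₀ : Function.Injective J₀ := S16187.jac_injective k r c (B ⧸ (bIdeal k B)) φ hφ a₀ hreg₀ hker₀ J₀
    (fun i => by simp [J₀, Fintype.linearCombination_apply_single])
  let t : B := algebraMap (PowerSeries k) B PowerSeries.X
  have htreg : IsSMulRegular B t :=
    IsSMulRegular.of_flat (isSMulRegular_iff_right_eq_zero_of_smul.2 fun z hz =>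
      (mul_eq_zero.1 hz).resolve_left PowerSeries.X_ne_zero)
  induction m generalizing b with
  | zero => exact fun i => by simp
  | succ m ih =>
    have h0 : J₀ (fun i => Ideal.Quotient.mk (bIdeal k B) (b i)) = 0 := by
      funext j
      simp only [J₀, Fintype.linearCombination_apply, Finset.sum_apply, Pi.smul_apply, smul_eq_mul, Pi.zero_apply, a₀,
        ← pd_reduction k r q hq, hφq, ← map_mul, ← map_sum]
      rw [Ideal.Quotient.eq_zero_iff_mem, Ideal.mem_span_singleton]
      refine (dvd_pow_self t m.succ_ne_zero).trans ?_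
      have := hb j
      simpa only [jac, Fintype.linearCombination_apply, Finset.sum_apply, Pi.smul_apply, smul_eq_mul, jd] using this
    have h1 : ∀ i, ∃ w, w * t = b i := fun i => Ideal.mem_span_singleton'.1
      (Ideal.Quotient.eq_zero_iff_mem.1 (congrFun ((hJ₀ (h0.trans (map_zero J₀).symm))) i))
    choose w hw using h1
    have hbw : b = t • w := funext fun i => by rw [Pi.smul_apply, smul_eq_mul, mul_comm, hw]
    have hw' : ∀ j, t ^ m ∣ jac k r ψ a w j := fun j => by
      obtain ⟨z, hz⟩ := hb j
      rw [hbw, map_smul, Pi.smul_apply, smul_eq_mul] at hz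
      exact ⟨z, htreg (show t • _ = t • _ by rw [smul_eq_mul, smul_eq_mul, hz, pow_succ']; ring)⟩
    intro i
    rw [← hw i, pow_succ]
    exact mul_dvd_mul (ih w hw' i) dvd_rfl

include hψ hker in
/-- The Jacobian is injective. -/
theorem jac_injective [IsAlgClosed k] [IsHausdorff (bIdeal k B) B] [Module.Flat (PowerSeries k) B]
    (hreg : RingTheory.Sequence.IsRegular
      ((AA k r) ⧸ Ideal.span {algebraMap (PowerSeries k) (AA k r) PowerSeries.X ^ (0 + 1)})
      ((List.ofFn a).map (Ideal.Quotient.mk (Ideal.span {algebraMap (PowerSeries k) (AA k r) PowerSeries.X ^ (0 + 1)}))))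
    [IsReduced (B ⧸ (bIdeal k B))] : Function.Injective (jac k r ψ a) := by
  refine (injective_iff_map_eq_zero _).2 fun b hb => funext fun i =>
    IsHausdorff.haus (inferInstance : IsHausdorff (bIdeal k B) B) _ fun n => ?_
  rw [SModEq.zero, smul_eq_mul, Ideal.mul_top, Ideal.span_singleton_pow, Ideal.mem_span_singleton]
  exact jac_reflects k r ψ a hker hψ hreg n b (fun j => by rw [hb]; exact dvd_zero _) i

include hψ hker in
/-- The Fitting ideal of the completed differentials and of the first cotangent module. -/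
theorem ideal_eq [IsAlgClosed k] [IsNoetherianRing B] [IsAdicComplete (bIdeal k B) B] [Module.Flat (PowerSeries k) B]
    (hreg : RingTheory.Sequence.IsRegular
      ((AA k r) ⧸ Ideal.span {algebraMap (PowerSeries k) (AA k r) PowerSeries.X ^ (0 + 1)})
      ((List.ofFn a).map (Ideal.Quotient.mk (Ideal.span {algebraMap (PowerSeries k) (AA k r) PowerSeries.X ^ (0 + 1)}))))
    [IsReduced (B ⧸ (bIdeal k B))] :
    Fitt.ideal B (Om k B) (r - c) =
      Fitt.ideal B (CategoryTheory.Abelian.Ext.{u} (ModuleCat.of B (Om k B)) (ModuleCat.of B B) 1) 0 := by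
  classical
  rcases subsingleton_or_nontrivial B with hB | hB
  · exact Subsingleton.elim _ _
  obtain ⟨hg, hJg⟩ := surjective_gen_and_exact k r ψ a hker hψ
  have hJ := jac_injective k r ψ a hker hψ hreg
  let J := jac k r ψ a
  let g := gen k r ψ
  have hcr : c ≤ r := le_of_fin_injective B J hJ
  have h1 : Fitt.ideal B (Om k B) (r - c) = FittX.minors c (LinearMap.range J) := by
    let e : ((Fin r → B) ⧸ LinearMap.range J) ≃ₗ[B] (Om k B) :=
      (Submodule.quotEquivOfEq _ _ (LinearMap.exact_iff.1 hJg).symm).trans (g.quotKerEquivOfSurjective hg)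
    rw [← FittX.ideal_congr' e, FittX.ideal_quotient_eq_minors, show r - (r - c) = c by omega]
  let δ := TFCurvLib.extDelta J g hJ hg hJg B
  let w : ((Fin c → B) →ₗ[B] B) ≃ₗ[B] (Fin c → B) := (Module.piEquiv (Fin c) B B).symm
  let K : Submodule B (Fin c → B) := (LinearMap.range J.dualMap).map (w : ((Fin c → B) →ₗ[B] B) →ₗ[B] (Fin c → B))
  have h2 : Fitt.ideal B (CategoryTheory.Abelian.Ext.{u} (ModuleCat.of B (Om k B)) (ModuleCat.of B B) 1) 0 =
      FittX.minors c (LinearMap.range J.dualMap) := by
    let e : ((Fin c → B) ⧸ K) ≃ₗ[B] CategoryTheory.Abelian.Ext.{u} (ModuleCat.of B (Om k B)) (ModuleCat.of B B) 1 :=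
      (Submodule.Quotient.equiv _ K w rfl).symm.trans
        ((Submodule.quotEquivOfEq _ _ (TFCurvLib.extDelta_ker J g hJ hg hJg B).symm).trans
          (δ.quotKerEquivOfSurjective (TFCurvLib.extDelta_surjective J g hJ hg hJg B)))
    rw [← FittX.ideal_congr' e, FittX.ideal_quotient_eq_minors, Nat.sub_zero]
    exact FittX.minors_map_equiv w _
  rw [h1, h2, FittX.minors_range_dualMap]

include hψ hker in
theorem finite_ext [IsAlgClosed k] [IsNoetherianRing B] [IsAdicComplete (bIdeal k B) B] [Module.Flat (PowerSeries k) B]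
    (hreg : RingTheory.Sequence.IsRegular
      ((AA k r) ⧸ Ideal.span {algebraMap (PowerSeries k) (AA k r) PowerSeries.X ^ (0 + 1)})
      ((List.ofFn a).map (Ideal.Quotient.mk (Ideal.span {algebraMap (PowerSeries k) (AA k r) PowerSeries.X ^ (0 + 1)}))))
    [IsReduced (B ⧸ (bIdeal k B))] :
    Module.Finite B (CategoryTheory.Abelian.Ext.{u} (ModuleCat.of B (Om k B)) (ModuleCat.of B B) 1) := by
  obtain ⟨hg, hJg⟩ := surjective_gen_and_exact k r ψ a hker hψ
  have hJ := jac_injective k r ψ a hker hψ hreg
  exact Module.Finite.of_surjective (TFCurvLib.extDelta (jac k r ψ a) (gen k r ψ) hJ hg hJg B)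
    (TFCurvLib.extDelta_surjective _ _ hJ hg hJg B)

end Groth.Agent.H1FKd
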